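import Groth.Agent.Lib.Constr.Basic

/-!
# Open quotients of spectral spaces by spectral relations
-/

universe u v w

open Topology TopologicalSpace Set

namespace GrothLib.SpectralQuotient

section Cons

variable {U : Type u} [TopologicalSpace U] [SpectralSpace U]

theorem isClosed_cons_singleton (x : U) : IsClosed[constructibleTopology U] {x} :=
  @isClosed_singleton U (constructibleTopology U)
    (@T2Space.t1Space U (constructibleTopology U) GrothLib.Constr.t2Space_constructibleTopology) x

theorem isClosed_cons_of_isOpen {K : Set U} (hK : IsOpen K) (hKc : IsCompact K) :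
    IsClosed[constructibleTopology U] K :=
  @IsClosed.mk U (constructibleTopology U) K
    (IsCompact.isOpen_constructibleTopology_of_isClosed (by rwa [compl_compl]) hK.isClosed_compl)

theorem isClosed_cons_of_isClosed {s : Set U} (hs : IsClosed s) : IsClosed[constructibleTopology U] s :=
  @IsClosed.preimage U U (constructibleTopology U) _ id GrothLib.Constr.continuous_id_constructibleTopology s hs

theorem mem_closure_iff_exists_specializes {A : Set U} (hA : IsClosed[constructibleTopology U] A) (x : U) :
    x ∈ closure A ↔ ∃ a ∈ A, a ⤳ x := by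
  refine ⟨fun hx => ?_, fun ⟨a, ha, h⟩ => h.mem_closed isClosed_closure (subset_closure ha)⟩
  have hc := GrothLib.Constr.isCompact_constructibleTopology_of_isClosed hA
  let ι := {K : Set U // IsOpen K ∧ IsCompact K ∧ x ∈ K}
  obtain ⟨a, haA, ha⟩ := @IsCompact.inter_iInter_nonempty U (constructibleTopology U) A ι hc
    (fun K => K.1) (fun K => isClosed_cons_of_isOpen K.2.1 K.2.2.1) (fun t => by
      obtain ⟨y, hy, hyA⟩ := mem_closure_iff.1 hx (⋂ K ∈ t, (K : ι).1)
        (isOpen_biInter_finset fun K _ => K.2.1) (mem_iInter₂.2 fun K _ => K.2.2.2)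
      exact ⟨y, hyA, hy⟩)
  refine ⟨a, haA, specializes_iff_forall_open.2 fun O hO hxO => ?_⟩
  obtain ⟨W, ⟨hWo, hWc⟩, hxW, hWO⟩ := PrespectralSpace.isTopologicalBasis.exists_subset_of_mem_open hxO hO
  exact hWO (mem_iInter.1 ha ⟨W, hWo, hWc, hxW⟩)

theorem exists_maximal_generalization {A : Set U} (hA : IsClosed[constructibleTopology U] A) (hne : A.Nonempty) :
    ∃ a ∈ A, ∀ b ∈ A, b ⤳ a → b = a := by
  have hc := GrothLib.Constr.isCompact_constructibleTopology_of_isClosed hA
  let r : A → A → Prop := fun a b => (b : U) ⤳ (a : U)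
  have : Nonempty A := hne.to_subtype
  obtain ⟨m, hm⟩ := exists_maximal_of_chains_bounded (r := r) (fun c hcc => by
    let ι := {K : Set U // IsOpen K ∧ IsCompact K ∧ ∃ y ∈ c, (y : U) ∈ K}
    obtain ⟨a, haA, ha⟩ := @IsCompact.inter_iInter_nonempty U (constructibleTopology U) A ι hc
      (fun K => K.1) (fun K => isClosed_cons_of_isOpen K.2.1 K.2.2.1) (fun t => by
        classical
        rcases t.eq_empty_or_nonempty with rfl | ht
        · simpa using hne
        have key : ∀ s : Finset ι, s.Nonempty → ∃ y ∈ c, ∀ K ∈ s, (y : U) ∈ K.1 := by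
          intro s hs
          induction hs using Finset.Nonempty.cons_induction with
          | singleton K =>
            obtain ⟨y, hy, hyK⟩ := K.2.2.2
            exact ⟨y, hy, fun L hL => by rw [Finset.mem_singleton.1 hL]; exact hyK⟩
          | cons K s _ _ ih =>
            obtain ⟨z, hz, hzs⟩ := ih
            obtain ⟨y, hy, hyK⟩ := K.2.2.2
            by_cases e : y = z
            · subst e
              exact ⟨y, hy, fun L hL => (Finset.mem_cons.1 hL).elim (fun h => h ▸ hyK) (hzs L)⟩
            rcases hcc hy hz e with h | h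
            · exact ⟨z, hz, fun L hL => (Finset.mem_cons.1 hL).elim
                (fun h' => h' ▸ h.mem_open K.2.1 hyK) (hzs L)⟩
            · exact ⟨y, hy, fun L hL => (Finset.mem_cons.1 hL).elim (fun h' => h' ▸ hyK)
                (fun h' => h.mem_open L.2.1 (hzs L h'))⟩
        obtain ⟨y, -, hy⟩ := key t ht
        exact ⟨y, y.2, mem_iInter₂.2 hy⟩)
    refine ⟨⟨a, haA⟩, fun y hy => specializes_iff_forall_open.2 fun O hO hyO => ?_⟩
    obtain ⟨W, ⟨hWo, hWc⟩, hyW, hWO⟩ := PrespectralSpace.isTopologicalBasis.exists_subset_of_mem_open hyO hO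
    exact hWO (mem_iInter.1 ha ⟨W, hWo, hWc, y, hy, hyW⟩)) (fun {a b c} h1 h2 => h2.trans h1)
  exact ⟨m, m.2, fun b hb h => (h.antisymm (hm ⟨b, hb⟩ h)).eq⟩

theorem continuous_cons {Z : Type v} [TopologicalSpace Z] {t : Z → U}
    (ht : Continuous t) (hc : ∀ K, IsOpen K → IsCompact K → IsCompact (t ⁻¹' K)) :
    @Continuous Z U (constructibleTopology Z) (constructibleTopology U) t :=
  @continuous_generateFrom_iff Z U t (constructibleTopology Z) (constructibleTopologySubbasis U) |>.2 fun K hK => by
    rcases hK with ⟨ho, hKc⟩ | ⟨hcl, hKc⟩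
    · exact (hc K ho hKc).isOpen_constructibleTopology_of_isOpen (ho.preimage ht)
    · refine IsCompact.isOpen_constructibleTopology_of_isClosed ?_ (hcl.preimage ht)
      rw [← preimage_compl]
      exact hc _ hcl.isOpen_compl hKc

end Cons

section Quotient

variable {U : Type u} [TopologicalSpace U] [SpectralSpace U] {X : Type w} [TopologicalSpace X]
variable {Z : Type v} [TopologicalSpace Z] [SpectralSpace Z]
variable {f : U → X} {s t : Z → U}

/-- An open quotient of a spectral space by a spectral relation is spectral. -/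
theorem spectralSpace (hf : IsOpenQuotientMap f) (hqc : ∀ K, IsOpen K → IsCompact K → IsCompact (f ⁻¹' K))
    (hs : Continuous s) (hsc : ∀ K, IsOpen K → IsCompact K → IsCompact (s ⁻¹' K))
    (ht : Continuous t) (htc : ∀ K, IsOpen K → IsCompact K → IsCompact (t ⁻¹' K))
    (hR : ∀ u v, f u = f v ↔ ∃ z, s z = u ∧ t z = v) : SpectralSpace X := by
  have hbasis : IsTopologicalBasis {K : Set X | IsOpen K ∧ IsCompact K} := by
    refine isTopologicalBasis_of_isOpen_of_nhds (fun K hK => hK.1) fun x O hx hO => ?_
    obtain ⟨u, rfl⟩ := hf.surjective x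
    obtain ⟨W, ⟨hWo, hWc⟩, huW, hWO⟩ :=
      PrespectralSpace.isTopologicalBasis.exists_subset_of_mem_open (show u ∈ f ⁻¹' O from hx) (hO.preimage hf.continuous)
    exact ⟨f '' W, ⟨hf.isOpenMap W hWo, hWc.image hf.continuous⟩, ⟨u, huW, rfl⟩, image_subset_iff.2 hWO⟩
  have hfib : ∀ x, IsClosed[constructibleTopology U] (f ⁻¹' {x}) := fun x => by
    obtain ⟨v, rfl⟩ := hf.surjective x
    have e : f ⁻¹' {f v} = s '' (t ⁻¹' {v}) := Set.ext fun u =>
      ⟨fun h => let ⟨z, h1, h2⟩ := (hR u v).1 h; ⟨z, h2, h1⟩, fun ⟨z, h2, h1⟩ => (hR u v).2 ⟨z, h1, h2⟩⟩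
    rw [e]
    exact @IsCompact.isClosed U (constructibleTopology U) GrothLib.Constr.t2Space_constructibleTopology _
      (@IsCompact.image Z U (constructibleTopology Z) (constructibleTopology U) _ s
        (GrothLib.Constr.isCompact_constructibleTopology_of_isClosed
          (@IsClosed.preimage Z U (constructibleTopology Z) (constructibleTopology U) t (continuous_cons ht htc) _
            (isClosed_cons_singleton v)))
        (continuous_cons hs hsc))
  have hsub : ∀ {p q}, Inseparable p q → f ⁻¹' {p} ⊆ closure (f ⁻¹' {q}) := fun {p q} h u hu => by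
    refine mem_closure_iff.2 fun O hO huO => ?_
    obtain ⟨v, hv, e⟩ := (h.mem_open_iff (hf.isOpenMap O hO)).1 ⟨u, huO, hu⟩
    exact ⟨v, hv, e⟩
  have hT0 : T0Space X := ⟨fun p q h => by
    obtain ⟨a, ha, hmax⟩ := exists_maximal_generalization (hfib p) (hf.surjective p)
    obtain ⟨b, hb, hba⟩ := (mem_closure_iff_exists_specializes (hfib q) a).1 (hsub h ha)
    obtain ⟨a', ha', ha'b⟩ := (mem_closure_iff_exists_specializes (hfib p) b).1 (hsub h.symm hb)
    have e := hmax a' ha' (ha'b.trans hba)
    subst e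
    rw [(hba.antisymm ha'b).eq] at hb
    exact (ha : f a' = p).symm.trans hb⟩
  have : CompactSpace X := hf.surjective.compactSpace hf.continuous
  have : PrespectralSpace X :=
    PrespectralSpace.of_isTopologicalBasis hbasis fun _ h => h.2
  have : QuasiSeparatedSpace X := ⟨fun K L hKo hKc hLo hLc => by
    rw [← hf.surjective.image_preimage (K ∩ L), preimage_inter]
    exact ((QuasiSeparatedSpace.inter_isCompact _ _ (hKo.preimage hf.continuous) (hqc K hKo hKc)
      (hLo.preimage hf.continuous) (hqc L hLo hLc))).image hf.continuous⟩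
  have : QuasiSober X := ⟨fun {S} hS hSc => by
    classical
    let ι := {K : Set X // IsOpen K ∧ IsCompact K ∧ (S ∩ K).Nonempty}
    obtain ⟨u, huS, hu⟩ := @IsCompact.inter_iInter_nonempty U (constructibleTopology U) (f ⁻¹' S) ι
      (GrothLib.Constr.isCompact_constructibleTopology_of_isClosed
        (isClosed_cons_of_isClosed (hSc.preimage hf.continuous)))
      (fun K => f ⁻¹' K.1)
      (fun K => isClosed_cons_of_isOpen (K.2.1.preimage hf.continuous) (hqc _ K.2.1 K.2.2.1))
      (fun F => by
        obtain ⟨x, hxS, hx⟩ := isIrreducible_iff_sInter.1 hS (F.image Subtype.val)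
          (fun K hK => by obtain ⟨K, -, rfl⟩ := Finset.mem_image.1 hK; exact K.2.1)
          (fun K hK => by obtain ⟨K, -, rfl⟩ := Finset.mem_image.1 hK; exact K.2.2.2)
        obtain ⟨u, rfl⟩ := hf.surjective x
        exact ⟨u, hxS, mem_iInter₂.2 fun K hK => hx K.1 (Finset.mem_coe.2 (Finset.mem_image_of_mem _ hK))⟩)
    refine ⟨f u, subset_antisymm (closure_minimal (singleton_subset_iff.2 huS) hSc) fun y hy => ?_⟩
    refine hbasis.mem_closure_iff.2 fun K hK hyK => ⟨f u, ?_, rfl⟩
    exact mem_iInter.1 hu ⟨K, hK.1, hK.2, y, hy, hyK⟩⟩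
  exact {}

end Quotient

end GrothLib.SpectralQuotient
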